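import Cfsg.Agent.H29.UThreeThree.Data

/-!
Data for `PSU(3, 3)` as the stabiliser of a point in the action of `J₂` on 100 points.
-/

set_option autoImplicit false

namespace CfsgLib.J2Hundred.U33

open CfsgLib.H29.UThreeThree

/-- Sixty-three lines. -/
def lines : List ℕ := [130,142,185,111,169,114,311,62,38,124,266,274,39,262,215,63,143,239,120,166,94,295,254,90,50,213,76,33,25,84,41,195,16,6,167,53,101,272,158,68,223,255,202,194,165,138,133,79,207,168,131,292,28,263,243,148,231,251,164,229,303,77,55]

/-- The nonisotropic points. -/
def points : List (K9 × K9 × K9) := [
  ((0, 0), (0, 0), (1, 0)),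
  ((0, 0), (1, 0), (0, 0)),
  ((0, 0), (1, 0), (0, 1)),
  ((0, 0), (1, 0), (0, 2)),
  ((0, 0), (1, 0), (1, 0)),
  ((0, 0), (1, 0), (2, 0)),
  ((1, 0), (0, 0), (0, 0)),
  ((1, 0), (0, 0), (0, 1)),
  ((1, 0), (0, 0), (0, 2)),
  ((1, 0), (0, 0), (1, 0)),
  ((1, 0), (0, 0), (2, 0)),
  ((1, 0), (0, 1), (0, 0)),
  ((1, 0), (0, 1), (1, 1)),
  ((1, 0), (0, 1), (1, 2)),
  ((1, 0), (0, 1), (2, 1)),
  ((1, 0), (0, 1), (2, 2)),
  ((1, 0), (0, 2), (0, 0)),
  ((1, 0), (0, 2), (1, 1)),
  ((1, 0), (0, 2), (1, 2)),
  ((1, 0), (0, 2), (2, 1)),
  ((1, 0), (0, 2), (2, 2)),
  ((1, 0), (1, 0), (0, 0)),
  ((1, 0), (1, 0), (1, 1)),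
  ((1, 0), (1, 0), (1, 2)),
  ((1, 0), (1, 0), (2, 1)),
  ((1, 0), (1, 0), (2, 2)),
  ((1, 0), (1, 1), (0, 1)),
  ((1, 0), (1, 1), (0, 2)),
  ((1, 0), (1, 1), (1, 0)),
  ((1, 0), (1, 1), (1, 1)),
  ((1, 0), (1, 1), (1, 2)),
  ((1, 0), (1, 1), (2, 0)),
  ((1, 0), (1, 1), (2, 1)),
  ((1, 0), (1, 1), (2, 2)),
  ((1, 0), (1, 2), (0, 1)),
  ((1, 0), (1, 2), (0, 2)),
  ((1, 0), (1, 2), (1, 0)),
  ((1, 0), (1, 2), (1, 1)),
  ((1, 0), (1, 2), (1, 2)),
  ((1, 0), (1, 2), (2, 0)),
  ((1, 0), (1, 2), (2, 1)),
  ((1, 0), (1, 2), (2, 2)),
  ((1, 0), (2, 0), (0, 0)),
  ((1, 0), (2, 0), (1, 1)),
  ((1, 0), (2, 0), (1, 2)),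
  ((1, 0), (2, 0), (2, 1)),
  ((1, 0), (2, 0), (2, 2)),
  ((1, 0), (2, 1), (0, 1)),
  ((1, 0), (2, 1), (0, 2)),
  ((1, 0), (2, 1), (1, 0)),
  ((1, 0), (2, 1), (1, 1)),
  ((1, 0), (2, 1), (1, 2)),
  ((1, 0), (2, 1), (2, 0)),
  ((1, 0), (2, 1), (2, 1)),
  ((1, 0), (2, 1), (2, 2)),
  ((1, 0), (2, 2), (0, 1)),
  ((1, 0), (2, 2), (0, 2)),
  ((1, 0), (2, 2), (1, 0)),
  ((1, 0), (2, 2), (1, 1)),
  ((1, 0), (2, 2), (1, 2)),
  ((1, 0), (2, 2), (2, 0)),
  ((1, 0), (2, 2), (2, 1)),
  ((1, 0), (2, 2), (2, 2))]

/-- First generator of the stabiliser. -/
def wordA : List (Fin 4) := [2,0,2,3,2,3,1,3,1]

/-- Second generator of the stabiliser. -/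
def wordB : List (Fin 4) := [1,3,1,0,1,3,1,3,2,3,2,0,2,1,3,1]

/-- First unitary matrix. -/
def matA : M9 := ⟨(0, 2), (1, 2), (0, 2), (0, 1), (2, 0), (1, 1), (2, 1), (0, 2), (2, 0)⟩

/-- Second unitary matrix. -/
def matB : M9 := ⟨(1, 0), (1, 0), (1, 2), (1, 0), (1, 1), (0, 2), (1, 1), (1, 0), (0, 2)⟩

/-- First permutation. -/
def permA : List ℕ := [48,32,43,21,60,38,46,17,36,59,3,7,61,18,29,25,35,1,56,27,8,13,24,4,33,39,49,51,54,53,47,52,0,50,23,20,6,45,12,34,31,57,58,14,41,28,16,62,11,2,40,9,22,26,44,10,55,37,19,42,15,30,5]

/-- Second permutation. -/
def permB : List ℕ := [53,28,25,42,34,59,22,57,10,13,41,56,17,30,39,11,20,44,27,7,37,38,6,29,62,4,36,18,2,15,31,58,21,8,1,40,45,24,32,14,19,61,5,60,26,12,46,9,43,55,35,33,16,3,23,49,54,50,47,0,48,51,52]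

/-- Representatives of the orbit of the first point. -/
def orbWords : List (List Bool) := [
  [],
  [false,false,false,false,false],
  [false,false,false,true],
  [true,true],
  [false,true,true,true,false,false],
  [true,true,true,true],
  [false,true,false,true],
  [false,false,false],
  [true,false,true,false,true,false,false,false],
  [true,true,false,true,true,true],
  [false,false,true,false,false],
  [false,false],
  [true,true,true,false,true],
  [false,false,true,true],
  [false,true,false],
  [false,true,true,false],
  [false,false,false,true,false,true],
  [false,false,false,false],
  [false,false,false,true,true],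
  [false,false,true,true,true],
  [false,true,true,true,false,false,false],
  [false,true,true],
  [true,false,true,false,true],
  [true,true,true,false,false],
  [true,false,true,false,false,false],
  [false,false,true,true,false],
  [false,true],
  [true,false,false,false,true,true],
  [false,true,true,false,true],
  [false,false,true,false],
  [true,false,false,true,true],
  [true,true,false,false,true,true],
  [true,true,false,true,true],
  [false,true,false,true,false,false,false],
  [false,true,false,true,false],
  [true,true,true,false,false,false],
  [true,false,true],
  [false,true,false,false,false],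
  [true,false,true,true],
  [true,false,true,false],
  [false,true,true,false,false,false],
  [false,true,false,false,false,false],
  [true,true,true],
  [true,false],
  [true,false,false,false,false],
  [true,true,false,true],
  [false,false,true,false,true],
  [true,false,true,true,true],
  [false],
  [false,false,true],
  [true,true,false,false,false],
  [true,false,true,true,true,false,true],
  [false,true,true,false,false,true,true],
  [true],
  [true,true,false,false],
  [false,true,false,false],
  [true,false,false],
  [true,false,false,false],
  [false,true,true,true],
  [true,true,true,true,true],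
  [true,true,false],
  [false,true,true,true,false,true],
  [false,true,false,true,true,true]]

/-- Stabiliser of the first point. -/
def stabWords : List (List Bool) := [
  [],
  [false,true,true,false,true,true],
  [false,true,false,true,true,true,true],
  [false,false,true,false,true,false,true,false],
  [true,false,true,true,false,true,true,true],
  [true,false,true,false,true,false,false,true,true],
  [false,false,false,true,false,true,false,true,true],
  [false,true,true,true,true,true,false,true,true],
  [true,true,false,false,true,false,true,true,true],
  [true,true,true,false,true,true,true,true,true],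
  [false,true,true,true,false,false,false,false,false,false],
  [true,true,false,true,true,false,true,false,false,false],
  [true,true,true,true,false,false,false,true,false,false],
  [false,false,true,true,false,true,true,true,false,false],
  [false,true,true,false,true,false,false,false,true,false],
  [false,false,true,true,true,false,false,true,true,false],
  [false,false,false,false,false,true,false,true,true,false],
  [false,false,true,false,false,true,false,false,false,true],
  [true,true,true,true,false,false,true,false,false,true],
  [true,true,false,true,false,true,false,true,false,true],
  [true,false,false,false,true,false,false,false,true,true],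
  [true,false,false,true,false,false,true,false,true,true],
  [false,true,false,true,false,true,true,true,true,true],
  [true,false,false,true,true,false,true,false,false,false,false],
  [false,true,false,false,true,true,false,true,false,false,false],
  [false,true,false,true,true,true,false,false,false,true,false],
  [false,false,true,true,true,false,true,false,false,true,false],
  [false,true,true,true,false,true,false,true,false,true,false],
  [false,false,true,false,true,false,false,false,false,false,true],
  [false,true,false,true,true,false,false,true,false,false,true],
  [true,false,false,true,true,true,false,true,false,false,true],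
  [false,true,false,false,true,false,true,false,true,false,true],
  [true,false,true,true,true,true,true,false,false,true,true],
  [true,false,true,false,false,false,false,true,false,true,true],
  [true,true,true,false,false,true,true,false,true,true,true],
  [true,false,true,false,false,true,false,true,false,false,false,false],
  [true,false,true,true,false,true,false,false,false,true,false,false],
  [false,false,true,false,false,true,false,true,false,true,false,false],
  [false,false,true,true,true,true,false,true,false,true,false,false],
  [false,true,true,false,false,false,true,true,false,true,false,false],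
  [true,false,true,false,false,true,false,false,true,true,false,false],
  [false,true,true,false,true,false,false,true,true,false,true,false],
  [true,true,true,true,true,false,false,true,true,false,true,false],
  [false,false,true,false,true,true,false,true,false,false,false,true],
  [true,false,true,true,false,true,false,false,true,false,false,true],
  [false,false,true,false,false,true,false,true,true,false,false,true],
  [false,false,true,true,true,true,false,true,true,false,false,true],
  [false,true,true,false,false,false,true,true,true,false,false,true],
  [false,false,true,true,false,true,false,false,true,true,false,true],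
  [false,false,true,true,true,true,true,false,true,true,false,true],
  [true,true,true,false,false,true,false,true,false,false,true,true],
  [true,false,true,false,true,false,true,true,true,false,true,true],
  [true,true,true,false,true,false,false,true,false,true,true,true],
  [true,false,true,false,true,false,true,false,false,false,false,false,false],
  [true,true,true,false,true,false,true,true,false,true,false,false,false],
  [true,true,false,true,true,true,false,true,true,true,false,false,false],
  [true,true,false,true,true,false,false,true,false,false,true,false,false],
  [false,false,true,false,true,false,false,false,true,false,true,false,false],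
  [false,true,false,true,true,false,false,true,true,false,true,false,false],
  [false,false,false,true,true,true,true,true,false,true,true,false,false],
  [true,false,true,false,true,false,false,true,false,false,false,true,false],
  [false,false,false,true,false,true,false,true,false,false,false,true,false],
  [false,false,true,false,true,true,false,false,true,false,false,true,false],
  [false,true,true,false,true,false,true,false,false,true,false,true,false],
  [true,true,true,true,true,false,true,false,false,true,false,true,false],
  [false,true,false,true,true,true,false,false,true,true,false,true,false],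
  [false,false,true,true,false,true,true,true,false,true,true,true,false],
  [false,false,true,false,true,true,true,false,false,false,false,false,true],
  [true,true,false,false,true,false,true,false,false,true,false,false,true],
  [false,false,true,false,true,false,false,false,true,true,false,false,true],
  [true,false,true,false,true,true,true,false,true,false,false,true,true],
  [true,false,false,true,true,false,true,true,false,true,false,true,true],
  [false,true,false,true,false,true,true,false,true,true,true,true,true],
  [true,true,true,true,false,true,true,false,true,false,true,false,false,false],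
  [true,true,false,true,false,false,true,true,true,false,true,false,false,false],
  [true,false,true,false,false,true,true,false,true,true,false,true,false,false],
  [false,false,true,false,false,true,false,false,true,false,true,true,false,false],
  [true,false,false,false,true,false,false,false,true,false,false,false,true,false],
  [true,false,false,true,false,false,true,false,true,false,false,false,true,false],
  [false,true,true,true,false,true,true,true,false,true,false,false,true,false],
  [false,true,false,true,true,true,false,true,false,false,true,false,true,false],
  [false,true,true,true,false,true,false,true,false,false,false,false,false,true],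
  [false,true,false,false,false,true,false,true,false,false,true,false,false,true],
  [false,false,true,false,true,true,false,true,false,true,true,false,false,true],
  [false,false,true,false,true,true,false,true,true,true,false,false,false,false,false],
  [true,true,true,false,false,true,false,false,true,false,true,false,false,false,false],
  [false,true,false,false,true,false,false,true,true,true,false,true,false,false,false],
  [true,false,true,false,true,true,false,true,true,true,false,false,true,false,false],
  [false,true,false,false,true,true,false,true,false,true,true,false,false,true,false],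
  [false,false,true,false,true,false,false,true,true,true,false,true,false,true,false],
  [false,false,true,true,true,false,true,false,true,false,false,false,true,true,false],
  [false,false,true,false,false,true,false,true,false,true,false,true,true,true,false],
  [false,true,true,false,true,false,true,false,false,false,true,false,false,false,true],
  [false,true,true,false,true,true,true,false,true,false,true,false,false,true,true],
  [true,true,false,true,false,true,true,false,true,false,true,false,true,true,true],
  [false,true,true,true,false,true,true,false,true,false,true,false,false,false,false,false]]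

/-- A base for the stabiliser. -/
def base : List ℕ := [1,12]

/-- Representatives of the points. -/
def reps : List (List (Fin 4)) := [
  [],
  [1],
  [2],
  [3],
  [0,1],
  [2,1],
  [1,2],
  [3,2],
  [0,3],
  [1,3],
  [2,0,1],
  [3,0,1],
  [0,2,1],
  [3,2,1],
  [0,1,2],
  [3,1,2],
  [0,3,2],
  [1,3,2],
  [2,3,2],
  [2,0,3],
  [2,1,3],
  [0,2,0,1],
  [1,2,0,1],
  [2,3,0,1],
  [1,0,2,1],
  [2,0,2,1],
  [3,0,2,1],
  [0,3,2,1],
  [2,3,2,1],
  [2,0,1,2],
  [3,0,1,2],
  [0,3,1,2],
  [1,3,1,2],
  [1,0,3,2],
  [2,0,3,2],
  [0,1,3,2],
  [2,1,3,2],
  [3,1,3,2],
  [0,2,3,2],
  [1,2,3,2],
  [3,2,0,3],
  [3,2,1,3],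
  [1,0,2,0,1],
  [2,0,2,0,1],
  [3,0,2,0,1],
  [0,1,2,0,1],
  [3,1,2,0,1],
  [3,2,3,0,1],
  [1,2,0,2,1],
  [3,2,0,2,1],
  [0,3,0,2,1],
  [2,3,0,2,1],
  [1,0,3,2,1],
  [2,0,3,2,1],
  [3,2,3,2,1],
  [0,3,0,1,2],
  [1,3,0,1,2],
  [2,3,0,1,2],
  [3,1,3,1,2],
  [3,1,0,3,2],
  [1,2,0,3,2],
  [3,0,1,3,2],
  [2,3,1,3,2],
  [2,0,2,3,2],
  [3,1,2,3,2],
  [2,3,2,0,3],
  [0,3,2,1,3],
  [1,3,2,1,3],
  [1,2,0,2,0,1],
  [3,2,0,2,0,1],
  [1,3,0,2,0,1],
  [2,0,1,2,0,1],
  [1,3,1,2,0,1],
  [0,1,2,0,2,1],
  [2,1,2,0,2,1],
  [1,0,3,0,2,1],
  [1,2,3,0,2,1],
  [0,2,0,3,2,1],
  [1,0,3,0,1,2],
  [2,0,3,0,1,2],
  [2,3,1,3,1,2],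
  [1,3,1,0,3,2],
  [2,3,1,0,3,2],
  [2,1,2,0,3,2],
  [3,2,0,2,3,2],
  [1,3,1,2,3,2],
  [3,2,3,2,0,3],
  [2,1,2,0,2,0,1],
  [2,3,2,0,2,0,1],
  [0,1,3,0,2,0,1],
  [3,1,3,0,2,0,1],
  [1,2,0,1,2,0,1],
  [0,1,3,1,2,0,1],
  [3,2,1,2,0,2,1],
  [2,1,0,3,0,2,1],
  [3,1,0,3,0,2,1],
  [1,0,2,0,3,2,1],
  [3,2,3,1,3,1,2],
  [0,2,1,2,0,3,2],
  [2,3,1,3,0,2,0,1]]

/-- A point in the orbit of length 36. -/
def start36 : ℕ := 15

/-- A point in the orbit of length 63. -/
def start63 : ℕ := 1

/-- Words for the orbit of length 36. -/
def orb36 : List (List Bool) := [
  [],
  [true,true,false,false],
  [true,false,false,true],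
  [true,false,false,false,false,false],
  [true,true,true,true,false,false],
  [false,false,false],
  [true,true,true,true],
  [false,true,false,false,false,true],
  [true,true,false,false,false],
  [false,false,true],
  [true,false,false,false,true],
  [true,true,true],
  [false,true,true,false,true],
  [false,true],
  [false,true,true,true,true],
  [true,true,false,true],
  [true,true,true,false,false],
  [false],
  [false,true,true,false,false],
  [false,true,false,false],
  [true,false,true],
  [false,false,true,true],
  [true,false,false],
  [true],
  [false,false,false,true,true],
  [false,false],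
  [false,false,false,false],
  [false,false,false,true],
  [true,false,true,true,false,false],
  [false,false,false,false,false,false],
  [true,true,false,false,true],
  [true,false,false,false],
  [false,false,false,false,false],
  [false,true,true],
  [true,true],
  [true,false,false,false,false]]

/-- Words for the orbit of length 63. -/
def orb63 : List (List Bool) := [
  [],
  [true,false,true,true,true,false],
  [true,true,false],
  [true,true,true,true,true,false,true],
  [true,false,true,false,true],
  [false,true,true,true,false],
  [false,true,false,true,false],
  [false,true,false,false,true,true],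
  [true,false,true,true],
  [true,false],
  [true,true,false,true,true,false],
  [false,false,true,true,false],
  [false,true,true],
  [true,true,true,true,false,true],
  [false,false,true,true,false,true],
  [false,true,false,true,false,false],
  [false,true,true,false,true],
  [true,false,true,false,false],
  [true,false,true,false,false,true,true],
  [true,false,false,false],
  [false,false,false,false],
  [true,true,false,false,true,true],
  [true,true,true,true,false,false,false],
  [true,false,false,false,false],
  [false,true,false,false,false,false],
  [true,true,false,false,false],
  [false,false,true,false,true,false],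
  [true,true],
  [false,false,true],
  [false,false,true,false],
  [true,true,false,true,true],
  [false,true,false,true],
  [true,false,true,true,false,false,false],
  [true,false,true,false,false,false,false],
  [false,true,false,true,true,false],
  [false,false,true,false,true,false,false],
  [true,true,false,true,false,false],
  [false,false,false,true,true,false],
  [false,false],
  [false,false,true,true],
  [true,true,true,false,true],
  [false,true,true,false],
  [true,true,true,false],
  [true,false,false],
  [false,true],
  [false,true,false],
  [false],
  [true,true,true,false,false,false],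
  [false,false,false,false,false],
  [true,false,false,true,true],
  [true,false,false,true,true,false],
  [true,true,false,true],
  [false,false,false,true,true],
  [false,true,true,false,false,false],
  [false,true,false,false],
  [true,true,true,false,true,true,false],
  [true,false,true,false],
  [true,false,true],
  [false,true,false,false,true,true,false],
  [true],
  [true,false,true,true,false],
  [false,false,false],
  [false,false,false,true,false]]

/-- The orbit of length 36. -/
def pts36 : List ℕ := [15,20,22,23,24,26,28,31,33,36,37,39,44,45,46,49,50,52,53,57,59,64,65,69,74,75,76,77,78,79,83,84,90,94,98,99]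

/-- The orbit of length 63. -/
def pts63 : List ℕ := [1,2,3,4,5,6,7,8,9,10,11,12,13,14,16,17,18,19,21,25,27,29,30,32,34,35,38,40,41,42,43,47,48,51,54,55,56,58,60,61,62,63,66,67,68,70,71,72,73,80,81,82,85,86,87,88,89,91,92,93,95,96,97]

end CfsgLib.J2Hundred.U33
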